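import Cfsg.Agent.Lib.KlingerMason.Elem
import Cfsg.Agent.Lib.Signalizer.PAction

/-!
# Klinger-Mason: the setting and the exchange lemma

* `Setting p m`: local characteristic `p` and characteristic 2 type, `m` bounds the 2-local `p`-rank
* `Setting.exists_inverted`: a commuting pair `(E, B)` yields one with `|E|` halved and `|B|` times `p`
* `Setting.rank_bound`: `2`-rank plus `p`-rank of a commuting pair is at most `m + 1`
-/

set_option autoImplicit false
set_option linter.unusedSectionVars false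

namespace Cfsg.Agent.KlingerMason

open Subgroup LocalCharP

/-- The hypotheses in the form used by the proof. -/
structure Setting (G : Type*) [Group G] (p m : ℕ) : Prop where
  odd : Odd p
  three_le : 3 ≤ m
  charP : ∀ B : Subgroup G, IsPGroup p B → B ≠ ⊥ → HasCharP p (centralizer (B : Set G))
  charTwo : ∀ T : Subgroup G, IsPGroup 2 T → T ≠ ⊥ → HasCharP 2 (normalizer (T : Set G))
  bound : ∀ (k : ℕ) (A T : Subgroup G), Cfsg.IsElementaryAbelian p A → Nat.card A = p ^ k →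
    IsPGroup 2 T → T ≠ ⊥ → A ≤ normalizer (T : Set G) → k ≤ m

variable {G : Type*} [Group G] [Finite G] {p m : ℕ} [Fact p.Prime]

theorem odd_card_of_isPGroup (hp : Odd p) {P : Subgroup G} (hP : IsPGroup p P) :
    ¬ 2 ∣ Nat.card P := by
  obtain ⟨k, hk⟩ := IsPGroup.iff_card.1 hP
  rw [hk]
  exact fun h => Nat.not_even_iff_odd.2 hp ((Nat.prime_two.dvd_of_dvd_pow h) |> even_iff_two_dvd.2)

theorem not_dvd_card_of_two_group (hp : Odd p) {T : Subgroup G} (hT : IsPGroup 2 T) :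
    ¬ p ∣ Nat.card T := by
  obtain ⟨k, hk⟩ := IsPGroup.iff_card.1 hT
  rw [hk]
  intro h
  have := (Nat.prime_dvd_prime_iff_eq Fact.out Nat.prime_two).1
    ((Fact.out : p.Prime).dvd_of_dvd_pow h)
  exact Nat.not_even_iff_odd.2 hp (this ▸ even_two)

theorem inf_eq_bot_of_two (hp : Odd p) {P T : Subgroup G} (hP : IsPGroup p P) (hT : IsPGroup 2 T) :
    P ⊓ T = ⊥ := by
  obtain ⟨j, hj⟩ := IsPGroup.iff_card.1 hP
  obtain ⟨k, hk⟩ := IsPGroup.iff_card.1 hT
  refine inf_eq_bot_of_coprime ?_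
  rw [hj, hk]
  exact ((Nat.coprime_two_right.2 hp).pow _ _)

theorem exists_involution {T : Subgroup G} (hT : IsPGroup 2 T) (hT1 : T ≠ ⊥) :
    ∃ t ∈ T, t ≠ 1 ∧ t * t = 1 := by
  haveI := (nontrivial_iff_ne_bot T).2 hT1
  obtain ⟨k, hk0, hk⟩ := hT.nontrivial_iff_card.1 inferInstance
  obtain ⟨t, ht⟩ := exists_prime_orderOf_dvd_card' (G := T) 2 (hk ▸ dvd_pow_self 2 hk0.ne')
  refine ⟨t, t.2, fun h => ?_, ?_⟩
  · rw [OneMemClass.coe_eq_one] at h
    simp [h] at ht
  · have := pow_orderOf_eq_one t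
    rw [ht, sq] at this
    exact congrArg Subtype.val this

theorem ne_bot_of_card {A : Subgroup G} {q n : ℕ} (hq : 1 < q) (hn : n ≠ 0)
    (h : Nat.card A = q ^ n) : A ≠ ⊥ := by
  rintro rfl
  rw [Subgroup.card_bot] at h
  exact (Nat.one_lt_pow hn hq).ne h

theorem hyperplane_card {E F : Subgroup G} {q e : ℕ} (hq : 0 < q) (hFE : F ≤ E)
    (hi : F.relIndex E = q) (hE : Nat.card E = q ^ (e + 1)) : Nat.card F = q ^ e := by
  have := Signalizer.card_hyperplane_mul hFE hi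
  rw [hE, pow_succ] at this
  exact Nat.eq_of_mul_eq_mul_right hq this

/-- The fundamental exchange. -/
theorem Setting.exists_inverted (S : Setting G p m) {E B : Subgroup G}
    (hE : Cfsg.IsElementaryAbelian 2 E) (hE1 : E ≠ ⊥) (hB : Cfsg.IsElementaryAbelian p B)
    (hB1 : B ≠ ⊥) (hEB : E ≤ centralizer (B : Set G)) :
    ∃ (F : Subgroup G) (u x : G), F ≤ E ∧ F.relIndex E = 2 ∧ u ∈ E ∧ x ^ p = 1 ∧ x ∉ B ∧
      x ∈ pCoreIn p (centralizer (B : Set G)) ∧ x ∈ centralizer (B : Set G) ∧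
      x ∈ centralizer (F : Set G) ∧ u * x * u⁻¹ = x⁻¹ := by
  set P := pCoreIn p (centralizer (B : Set G)) with hPdef
  have hBp : IsPGroup p B := Signalizer.isPGroup_of_elemAb hB
  have hE2 : IsPGroup 2 E := Signalizer.isPGroup_of_elemAb hE
  have hPp : IsPGroup p P := isPGroup_pCoreIn p _
  have hEP : E ≤ normalizer (P : Set G) := hEB.trans (le_normalizer_pCoreIn p _)
  have hnot : ¬ P ≤ centralizer (E : Set G) := by
    intro h
    refine hE1 (le_bot_iff.1 ?_)
    rw [← inf_eq_bot_of_two S.odd hPp hE2]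
    exact le_inf (fun e he => S.charP B hBp hB1 ⟨hEB he, Subgroup.le_centralizer_iff.1 h he⟩) le_rfl
  obtain ⟨F, hFE, hFi, hF⟩ : ∃ F : Subgroup G, F ≤ E ∧ F.relIndex E = 2 ∧
      ¬ P ⊓ centralizer (F : Set G) ≤ centralizer (E : Set G) := by
    by_contra hcon
    push Not at hcon
    exact hnot (Signalizer.le_of_hyperplanes hE hE1 _ P (odd_card_of_isPGroup S.odd hPp) hEP hcon)
  obtain ⟨y, hy, hyE⟩ := SetLike.not_le_iff_exists.1 hF
  obtain ⟨u, hu, huy⟩ : ∃ u ∈ E, u * y * u⁻¹ ≠ y := by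
    by_contra hcon
    push Not at hcon
    exact hyE (Signalizer.mem_centralizer_iff_conj.2 hcon)
  have huu : u * u = 1 := by rw [← sq]; exact hE.2 u hu
  have hui : u⁻¹ = u := inv_eq_of_mul_eq_one_right huu
  have hEM : E ≤ normalizer ((P ⊓ centralizer (F : Set G) : Subgroup G) : Set G) :=
    Signalizer.le_normalizer_inf hEP (Signalizer.le_normalizer_centralizer
      (Signalizer.le_normalizer_of_commute fun a ha b hb =>
        Signalizer.commute_of_isMulCommutative hE.1 ha (hFE hb)))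
  set z := y⁻¹ * (u * y * u⁻¹) with hz
  have hzM : z ∈ P ⊓ centralizer (F : Set G) :=
    mul_mem (inv_mem hy) (Signalizer.conj_mem hEM hu hy)
  have huz : u * z * u⁻¹ = z⁻¹ := by
    rw [hz, hui]
    calc u * (y⁻¹ * (u * y * u)) * u = u * y⁻¹ * u * y * (u * u) := by group
      _ = (u⁻¹ * y⁻¹ * u⁻¹) * y := by rw [huu, hui, mul_one]
      _ = _ := by group
  have hz1 : z ≠ 1 := fun h => huy (inv_mul_eq_one.1 (hz ▸ h)).symm
  obtain ⟨k, hk⟩ : ∃ k, orderOf z = p ^ k := by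
    obtain ⟨k, hk⟩ := hPp ⟨z, hzM.1⟩
    have h1 : z ^ p ^ k = 1 := by simpa using congrArg Subtype.val hk
    obtain ⟨j, -, hj⟩ := (Nat.dvd_prime_pow Fact.out).1 (orderOf_dvd_of_pow_eq_one h1)
    exact ⟨j, hj⟩
  obtain ⟨l, rfl⟩ : ∃ l, k = l + 1 := by
    refine Nat.exists_eq_succ_of_ne_zero fun h => hz1 (orderOf_eq_one_iff.1 ?_)
    rw [hk, h, pow_zero]
  have hxp : (z ^ p ^ l) ^ p = 1 := by rw [← pow_mul, ← pow_succ, ← hk, pow_orderOf_eq_one]
  have hx1 : z ^ p ^ l ≠ 1 := fun h => by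
    have := Nat.le_of_dvd (pow_pos (Fact.out : p.Prime).pos l) (orderOf_dvd_of_pow_eq_one h)
    rw [hk, pow_succ] at this
    have := (Fact.out : p.Prime).two_le
    have := pow_pos (Fact.out : p.Prime).pos l
    nlinarith
  have hxu : u * z ^ p ^ l * u⁻¹ = (z ^ p ^ l)⁻¹ := by rw [← conj_pow, huz, inv_pow]
  refine ⟨F, u, z ^ p ^ l, hFE, hFi, hu, hxp, fun hxB => hx1 ?_, pow_mem hzM.1 _,
    pCoreIn_le p _ (pow_mem hzM.1 _), pow_mem hzM.2 _, hxu⟩
  have hc := mem_centralizer_iff.1 (hEB hu) _ hxB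
  rw [conj_eq_of_commute hc.symm, eq_inv_iff_mul_eq_one, ← sq] at hxu
  exact orderOf_eq_one_iff.1 (Nat.eq_one_of_dvd_coprimes (Nat.coprime_two_right.2 S.odd)
    (orderOf_dvd_of_pow_eq_one hxp) (orderOf_dvd_of_pow_eq_one hxu))

theorem Setting.rank_bound (S : Setting G p m) :
    ∀ (e b : ℕ) (E B : Subgroup G), Cfsg.IsElementaryAbelian 2 E → Nat.card E = 2 ^ e → e ≠ 0 →
      Cfsg.IsElementaryAbelian p B → Nat.card B = p ^ b → b ≠ 0 →
      E ≤ centralizer (B : Set G) → e + b ≤ m + 1 := by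
  intro e
  induction e with
  | zero => exact fun _ _ _ _ _ h => absurd rfl h
  | succ e ih =>
    intro b E B hE hEc _ hB hBc hb0 hEB
    have hE1 : E ≠ ⊥ := ne_bot_of_card one_lt_two (Nat.succ_ne_zero e) hEc
    have hB1 : B ≠ ⊥ := ne_bot_of_card (Fact.out : p.Prime).one_lt hb0 hBc
    rcases eq_or_ne e 0 with rfl | he
    · have := S.bound b B E hB hBc (Signalizer.isPGroup_of_elemAb hE) hE1
        ((Subgroup.le_centralizer_iff.1 hEB).trans (centralizer_le_normalizer (E : Set G)))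
      omega
    obtain ⟨F, u, x, hFE, hFi, -, hxp, hxB, -, hxC, hxF, -⟩ :=
      S.exists_inverted hE hE1 hB hB1 hEB
    obtain ⟨hB', hB'c⟩ := elemAb_grow hB hxp hxC hxB
    have := ih (b + 1) F _ (Signalizer.elemAb_of_le hE hFE) (hyperplane_card two_pos hFE hFi hEc) he
      hB' (by rw [hB'c, hBc, pow_succ]) (Nat.succ_ne_zero b)
      (Subgroup.le_centralizer_iff.1 (sup_le ((Subgroup.le_centralizer_iff.1 hEB).trans
        (Subgroup.centralizer_le (SetLike.coe_subset_coe.2 hFE))) (zpowers_le.2 hxF)))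
    omega

/-- A maximal `A` sees only one involution. -/
theorem Setting.eq_of_mem_centralizer (S : Setting G p m) {A : Subgroup G}
    (hA : Cfsg.IsElementaryAbelian p A) (hAc : Nat.card A = p ^ m) {s v : G} (hs : s * s = 1)
    (hs1 : s ≠ 1) (hsA : s ∈ centralizer (A : Set G)) (hv : v * v = 1) (hvA : v ∈ centralizer (A : Set G))
    (hsv : v * s = s * v) : v = 1 ∨ v = s := by
  by_contra hcon
  push Not at hcon
  have hvs : v ∉ zpowers s := fun h => by
    rcases mem_zpowers_of_sq hs h with h | h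
    exacts [hcon.1 h, hcon.2 h]
  obtain ⟨hV, hVc⟩ := elemAb_grow (p := 2) (PLocal.elemAb_zpowers (by rw [sq, hs]))
    (by rw [sq, hv]) (zpowers_le_centralizer_singleton hsv) hvs
  rw [Nat.card_zpowers, orderOf_eq_prime (by rw [sq, hs]) hs1] at hVc
  have := S.rank_bound 2 m _ A hV (by rw [hVc]; rfl) two_ne_zero hA hAc (by have := S.three_le; omega)
    (sup_le (zpowers_le.2 hsA) (zpowers_le.2 hvA))
  omega

end Cfsg.Agent.KlingerMason
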