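import Cfsg.Agent.Lib.Signalizer.ElemAb
import Cfsg.Agent.Lib.LocalCharP.Basic
import Cfsg.Agent.Lib.PLocal.Basic

/-!
# Klinger-Mason: elementary lemmas

* `fix_of_conj_eq_mul`: an element of odd order moves `x` by a fixed 2-element only trivially
* `elemAb_grow`, `three_involutions`
-/

set_option autoImplicit false
set_option linter.unusedSectionVars false

namespace Cfsg.Agent.KlingerMason

open Subgroup

variable {G : Type*} [Group G] {p : ℕ}

theorem elemAb_grow [Finite G] [Fact p.Prime] {E : Subgroup G} {v : G}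
    (hE : Cfsg.IsElementaryAbelian p E) (hv : v ^ p = 1)
    (hc : v ∈ centralizer (E : Set G)) (hvE : v ∉ E) :
    Cfsg.IsElementaryAbelian p (E ⊔ zpowers v) ∧
      Nat.card ↥(E ⊔ zpowers v) = Nat.card E * p := by
  have h : Cfsg.IsElementaryAbelian p (E ⊔ zpowers v) :=
    PLocal.elemAb_sup hE (PLocal.elemAb_zpowers hv)
      (Subgroup.le_centralizer_iff.1 (zpowers_le.2 hc))
  exact ⟨h, Signalizer.card_sup_zpowers h le_sup_left (le_sup_right (a := E) (mem_zpowers v)) hvE⟩

theorem zpowers_le_centralizer_singleton {x y : G} (h : x * y = y * x) :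
    x ∈ centralizer (zpowers y : Set G) := by
  rw [zpowers_eq_closure, Subgroup.centralizer_closure]
  exact mem_centralizer_iff.2 fun g hg => by rw [Set.mem_singleton_iff.1 hg, h]

theorem mem_zpowers_of_sq {v x : G} (hv : v * v = 1) (hx : x ∈ zpowers v) : x = 1 ∨ x = v := by
  obtain ⟨n, rfl⟩ := mem_zpowers_iff.1 hx
  rcases Int.even_or_odd n with ⟨k, rfl⟩ | ⟨k, rfl⟩
  · left
    rw [zpow_add, ← (Commute.refl v).mul_zpow, hv, one_zpow]
  · right
    rw [zpow_add_one, two_mul, zpow_add, ← (Commute.refl v).mul_zpow, hv, one_zpow, one_mul]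

/-- If `a` has order dividing an odd `p` and moves `x` by a fixed element `d` with `d ^ 4 = 1`,
then `a` fixes `x`. -/
theorem fix_of_conj_eq_mul {a x d : G} (hp : Odd p) (ha : a ^ p = 1) (hd : d ^ 4 = 1)
    (hda : a * d = d * a) (h : a * x * a⁻¹ = d * x) : a * x = x * a := by
  have key : ∀ n : ℕ, a ^ n * x * (a ^ n)⁻¹ = d ^ n * x := by
    intro n
    induction n with
    | zero => simp
    | succ n ih =>
      calc a ^ (n + 1) * x * (a ^ (n + 1))⁻¹ = a * (a ^ n * x * (a ^ n)⁻¹) * a⁻¹ := by
            rw [pow_succ']; group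
        _ = (a * d ^ n) * x * a⁻¹ := by rw [ih]; group
        _ = d ^ n * (a * x * a⁻¹) := by rw [((show Commute a d from hda).pow_right n).eq]; group
        _ = d ^ (n + 1) * x := by rw [h, pow_succ]; group
  have h1 := key p
  rw [ha, one_mul, inv_one, mul_one, eq_comm, mul_eq_right] at h1
  have hcop : Nat.Coprime p 4 := by
    have := (Nat.coprime_two_right.2 hp).pow_right 2
    simpa using this
  have hd1 : d = 1 := orderOf_eq_one_iff.1 (Nat.eq_one_of_dvd_coprimes hcop
    (orderOf_dvd_of_pow_eq_one h1) (orderOf_dvd_of_pow_eq_one hd))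
  rwa [hd1, one_mul, mul_inv_eq_iff_eq_mul] at h

theorem conj_eq_of_commute {a x : G} (h : a * x = x * a) : a * x * a⁻¹ = x := by
  rw [h, mul_inv_cancel_right]

/-- An element of odd order fixing the involution `s` cannot interchange `v` and `s * v`. -/
theorem fix_pair {a v s : G} (hp : Odd p) (ha : a ^ p = 1) (hs : s * s = 1)
    (has : a * s = s * a) (h : a * v * a⁻¹ = v ∨ a * v * a⁻¹ = s * v) : a * v = v * a := by
  rcases h with h | h
  · exact mul_inv_eq_iff_eq_mul.1 h
  · exact fix_of_conj_eq_mul hp ha (by rw [show (4 : ℕ) = 2 * 2 from rfl, pow_mul, sq s, hs, one_pow]) has h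

/-- The central product of two quaternion pairs contains three commuting involutions. -/
theorem three_involutions [Finite G] {s i j i' j' : G} (hs : s * s = 1) (hs1 : s ≠ 1)
    (hi : i * i = s) (hj : j * j = s) (hij : i * j = s * (j * i))
    (hi' : i' * i' = s) (hj' : j' * j' = s) (hij' : i' * j' = s * (j' * i'))
    (h1 : i * i' = i' * i) (h2 : i * j' = j' * i) (h3 : j * i' = i' * j) (h4 : j * j' = j' * j) :
    Cfsg.IsElementaryAbelian 2 (zpowers s ⊔ zpowers (i * i') ⊔ zpowers (j * j')) ∧
      Nat.card ↥(zpowers s ⊔ zpowers (i * i') ⊔ zpowers (j * j')) = 8 := by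
  have si : Commute s i := by rw [← hi]; exact (Commute.refl i).mul_left (Commute.refl i)
  have sj : Commute s j := by rw [← hj]; exact (Commute.refl j).mul_left (Commute.refl j)
  have si' : Commute s i' := by rw [← hi']; exact (Commute.refl i').mul_left (Commute.refl i')
  have sj' : Commute s j' := by rw [← hj']; exact (Commute.refl j').mul_left (Commute.refl j')
  have hw : (i * i') ^ 2 = 1 := by
    rw [(show Commute i i' from h1).mul_pow, sq, sq, hi, hi', hs]
  have hw' : (j * j') ^ 2 = 1 := by
    rw [(show Commute j j' from h4).mul_pow, sq, sq, hj, hj', hs]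
  have hww : Commute (i * i') (j * j') := by
    show i * i' * (j * j') = j * j' * (i * i')
    calc i * i' * (j * j') = i * (i' * j) * j' := by group
      _ = (i * j) * (i' * j') := by rw [← h3]; group
      _ = s * ((j * i) * s) * (j' * i') := by rw [hij, hij']; group
      _ = s * (s * (j * i)) * (j' * i') := by rw [(sj.mul_right si).eq]
      _ = j * (i * j') * i' := by rw [← mul_assoc s s, hs]; group
      _ = j * j' * (i * i') := by rw [h2]; group
  have hsE : Cfsg.IsElementaryAbelian 2 (zpowers s) := PLocal.elemAb_zpowers (by rw [sq, hs])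
  have hwE : i * i' ∉ zpowers s := by
    intro h
    have hc : Commute (i * i') j := by
      rcases mem_zpowers_of_sq hs h with h | h <;> rw [h]
      · exact Commute.one_left j
      · exact sj
    have hd : (i * j) * i' = (j * i) * i' := by
      calc (i * j) * i' = i * (j * i') := by group
        _ = (i * i') * j := by rw [h3]; group
        _ = j * (i * i') := hc.eq
        _ = (j * i) * i' := by group
    rw [mul_left_inj, hij, mul_eq_right] at hd
    exact hs1 hd
  obtain ⟨hE2, hc2⟩ := elemAb_grow hsE hw
    (zpowers_le_centralizer_singleton (si.mul_right si').symm.eq) hwE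
  have hcent : j * j' ∈ centralizer ((zpowers s ⊔ zpowers (i * i') : Subgroup G) : Set G) := by
    rw [zpowers_eq_closure, zpowers_eq_closure, ← Subgroup.closure_union,
      Subgroup.centralizer_closure]
    refine mem_centralizer_iff.2 ?_
    rintro g (rfl | rfl)
    · exact (sj.mul_right sj').eq
    · exact hww.eq
  have hw'E : j * j' ∉ zpowers s ⊔ zpowers (i * i') := by
    intro h
    have hle : zpowers s ⊔ zpowers (i * i') ≤ centralizer ({i} : Set G) := by
      refine sup_le (zpowers_le.2 ?_) (zpowers_le.2 ?_) <;>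
        refine mem_centralizer_iff.2 fun g hg => ?_ <;> rw [Set.mem_singleton_iff.1 hg]
      · exact si.symm.eq
      · exact ((Commute.refl i).mul_right h1).eq
    have hc : i * (j * j') = j * j' * i := mem_centralizer_iff.1 (hle h) i rfl
    have hd : (i * j) * j' = (j * i) * j' := by
      rw [mul_assoc, hc, mul_assoc, ← h2]; group
    rw [mul_left_inj, hij, mul_eq_right] at hd
    exact hs1 hd
  obtain ⟨hE3, hc3⟩ := elemAb_grow hE2 hw' hcent hw'E
  refine ⟨hE3, ?_⟩
  rw [hc3, hc2, Nat.card_zpowers, orderOf_eq_prime (by rw [sq, hs]) hs1]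

end Cfsg.Agent.KlingerMason
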