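import Cfsg.Agent.Lib.KlingerMason.Structure
import Cfsg.Prelude.Def_CaseTheorems
import Cfsg.Prelude.Def_Local
import Cfsg.Prelude.Def_LocalEven

/-!
# Klinger-Mason: the 2-local `p`-rank of a group of both characteristic 2 type and local
characteristic `p` is at most 2
-/

set_option autoImplicit false
set_option linter.unusedSectionVars false

namespace Cfsg.Agent.KlingerMason

open Subgroup LocalCharP
open scoped Pointwise commutatorElement

variable {G : Type*} [Group G] [Finite G] {p m : ℕ} [Fact p.Prime]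

theorem card_inf_hyperplanes {A B B' : Subgroup G} (hA : Cfsg.IsElementaryAbelian p A)
    (hBA : B ≤ A) (hBi : B.relIndex A = p) (hB'A : B' ≤ A) (hB'i : B'.relIndex A = p)
    (hne : B' ≠ B) {n : ℕ} (hn : Nat.card A = p ^ (n + 2)) :
    Nat.card ↥(B' ⊓ B) = p ^ n := by
  have hp := (Fact.out : p.Prime).pos
  have hcB := hyperplane_card hp hBA hBi hn
  have hcB' := hyperplane_card hp hB'A hB'i hn
  obtain ⟨b, hb, hbB⟩ : ∃ b ∈ B', b ∉ B := by
    by_contra hcon
    push Not at hcon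
    exact hne (eq_of_le_of_card_ge hcon (Nat.le_of_eq (hcB.trans hcB'.symm)))
  have hle : B ⊔ zpowers b = A := eq_of_le_of_card_ge (sup_le hBA (zpowers_le.2 (hB'A hb)))
    (Nat.le_of_eq (by
      rw [Signalizer.card_sup_zpowers hA hBA (hB'A hb) hbB, hcB, hn, ← pow_succ]))
  have heq : (B' ⊓ B) ⊔ zpowers b = B' := by
    refine le_antisymm (sup_le inf_le_left (zpowers_le.2 hb)) fun y hy => ?_
    have hy' : y ∈ (B : Set G) * (zpowers b : Set G) := by
      rw [← Subgroup.coe_mul_of_right_le_normalizer_left _ _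
        (Signalizer.le_normalizer_of_commute fun c hc d hd => Signalizer.commute_of_isMulCommutative
          hA.1 (zpowers_le.2 (hB'A hb) hc) (hBA hd)), hle]
      exact hB'A hy
    obtain ⟨c, hc, d, hd, rfl⟩ := hy'
    exact mul_mem (mem_sup_left ⟨(mul_mem_cancel_right (zpowers_le.2 hb hd)).1 hy, hc⟩)
      (mem_sup_right hd)
  have h := Signalizer.card_sup_zpowers (Signalizer.elemAb_of_le hA hB'A)
    (inf_le_left : B' ⊓ B ≤ B') hb fun h => hbB h.2
  rw [heq, hcB', pow_succ] at h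
  exact (Nat.eq_of_mul_eq_mul_right hp h).symm

theorem s_le_centralizer {A L C : Subgroup G} {s : G} (g : Good p m A s C) (hL : L ≤ A) :
    zpowers s ≤ centralizer (L : Set G) :=
  zpowers_le.2 (mem_centralizer_iff.2 fun l hl => (mem_centralizer_iff.1 (g.hAs (hL hl)) s rfl).symm)

/-- No four-group centralises an elementary subgroup of rank `m - 1`. -/
theorem Setting.no_four (S : Setting G p m) {E B : Subgroup G}
    (hE : Cfsg.IsElementaryAbelian 2 E) (hEc : Nat.card E = 2 ^ 2)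
    (hB : Cfsg.IsElementaryAbelian p B) {n : ℕ} (hn : m = n + 2) (hBc : Nat.card B = p ^ (n + 1))
    (hEB : E ≤ centralizer (B : Set G)) : False := by
  have hp := (Fact.out : p.Prime)
  have hm := S.three_le
  have hE1 : E ≠ ⊥ := ne_bot_of_card one_lt_two two_ne_zero hEc
  have hB1 : B ≠ ⊥ := ne_bot_of_card hp.one_lt (by omega) hBc
  obtain ⟨F, u, x, hFE, hFi, huE, hxp, hxB, hxP, hxC, hxF, hux⟩ :=
    S.exists_inverted hE hE1 hB hB1 hEB
  have hF2 : Nat.card F = 2 ^ 1 := hyperplane_card two_pos hFE hFi hEc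
  obtain ⟨s, hsF, hs1, hs⟩ := exists_involution
    (Signalizer.isPGroup_of_elemAb (Signalizer.elemAb_of_le hE hFE))
    (ne_bot_of_card one_lt_two one_ne_zero hF2)
  obtain ⟨hA, hAc⟩ := elemAb_grow hB hxp hxC hxB
  rw [hBc, ← pow_succ, ← hn] at hAc
  set A := B ⊔ zpowers x with hAdef
  have hsE := hFE hsF
  have hAs : A ≤ centralizer ({s} : Set G) :=
    sup_le ((Subgroup.le_centralizer_iff.1 hEB).trans (Signalizer.centralizer_le_singleton hsE))
      (zpowers_le.2 (Signalizer.centralizer_le_singleton hsF hxF))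
  obtain ⟨C, g⟩ := exists_good S hA hAc hs hs1 hAs
  have hxA : x ∈ A := mem_sup_right (mem_zpowers x)
  have hBA : B ≤ A := le_sup_left
  have hsxc : x ∈ centralizer ({s} : Set G) := hAs hxA
  -- `B` is not moved
  have hBfix : C ⊓ centralizer (B : Set G) ≤ centralizer (A : Set G) := by
    intro y hy
    have hyQ := g.le_pCore hy.1
    have hys : y ∈ centralizer ({s} : Set G) := pCoreIn_le 2 _ hyQ
    have hxy : x * y = y * x := by
      have h1 : x * y * x⁻¹ * y⁻¹ ∈ pCoreIn p (centralizer (B : Set G)) := by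
        rw [mul_assoc (x * y), mul_assoc x]
        exact mul_mem hxP (by
          rw [← mul_assoc]
          exact Signalizer.conj_mem (le_normalizer_pCoreIn p _) hy.2 (inv_mem hxP))
      have h2 : x * y * x⁻¹ * y⁻¹ ∈ pCoreIn 2 (centralizer ({s} : Set G)) :=
        mul_mem (Signalizer.conj_mem (le_normalizer_pCoreIn 2 _) hsxc hyQ) (inv_mem hyQ)
      have h3 : x * y * x⁻¹ * y⁻¹ ∈ (⊥ : Subgroup G) := by
        rw [← inf_eq_bot_of_two S.odd (isPGroup_pCoreIn p (centralizer (B : Set G)))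
          (isPGroup_pCoreIn 2 (centralizer ({s} : Set G)))]
        exact ⟨h1, h2⟩
      exact commutatorElement_eq_one_iff_mul_comm.1 (mem_bot.1 h3)
    refine Subgroup.le_centralizer_iff.1 (sup_le ?_ (zpowers_le.2 ?_) : A ≤ centralizer
      (zpowers y : Set G)) (mem_zpowers y)
    · exact fun b hb => zpowers_le_centralizer_singleton (mem_centralizer_iff.1 hy.2 b hb)
    · exact zpowers_le_centralizer_singleton hxy
  have hx1 : x ≠ 1 := fun h => hxB (h ▸ one_mem B)
  obtain ⟨B₀, hB₀, hxB₀⟩ := exists_moved S g hxA hx1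
  have hB₀B : B₀ ≠ B := fun h => hB₀.2.2 (h ▸ hBfix)
  -- `u` acts on `A` and `C`
  have huu : u * u = 1 := by rw [← sq]; exact hE.2 u huE
  have hui : u⁻¹ = u := inv_eq_of_mul_eq_one_right huu
  have huB : ∀ b ∈ B, u * b * u⁻¹ = b := fun b hb =>
    conj_eq_of_commute (mem_centralizer_iff.1 (hEB huE) b hb).symm
  have hus : u * s = s * u := Signalizer.commute_of_isMulCommutative hE.1 huE hsE
  have huA : u ∈ normalizer (A : Set G) := by
    refine Signalizer.mem_normalizer_of_conj_mem fun a ha => ?_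
    have : A.map (MulAut.conj u).toMonoidHom ≤ A := by
      rw [hAdef, Subgroup.map_sup]
      refine sup_le ?_ ?_
      · rintro _ ⟨b, hb, rfl⟩
        exact mem_sup_left (show u * b * u⁻¹ ∈ B by rw [huB b hb]; exact hb)
      · rw [MonoidHom.map_zpowers, zpowers_le]
        exact mem_sup_right (show u * x * u⁻¹ ∈ zpowers x by rw [hux]; exact inv_mem (mem_zpowers x))
    exact this ⟨a, ha, rfl⟩
  have huC : u ∈ normalizer (C : Set G) := g.invariant (mem_centralizer_iff.2 fun y hy => by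
    rw [Set.mem_singleton_iff.1 hy]; exact hus.symm)
  set B₀' := B₀.map (MulAut.conj u).toMonoidHom with hB₀'
  have hB₀'A : B₀' ≤ A := by
    rintro _ ⟨b, hb, rfl⟩; exact Signalizer.conj_mem le_rfl huA (hB₀.1 hb)
  have hB₀'i : B₀'.relIndex A = p := by
    have h2 : Nat.card B₀' * B₀'.relIndex A = Nat.card A := by
      rw [← Subgroup.relIndex_bot_left, ← Subgroup.relIndex_bot_left,
        Subgroup.relIndex_mul_relIndex _ _ _ bot_le hB₀'A]
    rw [hB₀', Subgroup.card_map_of_injective (MulAut.conj u).injective, ← hB₀',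
      ← Signalizer.card_hyperplane_mul hB₀.1 hB₀.2.1] at h2
    exact Nat.eq_of_mul_eq_mul_left Nat.card_pos h2
  have hne : B₀' ≠ B₀ := by
    intro h
    obtain ⟨b₀, hb₀, hb₀B⟩ : ∃ b₀ ∈ B₀, b₀ ∉ B := by
      by_contra hcon
      push Not at hcon
      exact hB₀B (eq_of_le_of_card_ge hcon (Nat.le_of_eq (by
        rw [hBc, hyperplane_card hp.pos hB₀.1 hB₀.2.1 (hn ▸ hAc)])))
    have hb₀' : b₀ ∈ (B : Set G) * (zpowers x : Set G) := by
      rw [← Subgroup.coe_mul_of_right_le_normalizer_left _ _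
        (Signalizer.le_normalizer_of_commute fun c hc d hd => Signalizer.commute_of_isMulCommutative
          hA.1 (mem_sup_right hc) (mem_sup_left hd))]
      exact hB₀.1 hb₀
    obtain ⟨b, hb, y, hy, rfl⟩ := hb₀'
    have huy : u * y * u⁻¹ = y⁻¹ := by
      obtain ⟨k, rfl⟩ := mem_zpowers_iff.1 hy
      rw [← conj_zpow, hux, inv_zpow]
    have h1 : b * y⁻¹ ∈ B₀ := by
      rw [← h]
      exact ⟨b * y, hb₀, by
        simp only [MulEquiv.coe_toMonoidHom, MulAut.conj_apply]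
        rw [show u * (b * y) * u⁻¹ = (u * b * u⁻¹) * (u * y * u⁻¹) by group, huB b hb, huy]⟩
    have h2 : y * y ∈ B₀ := by
      have := mul_mem (inv_mem h1) hb₀
      simpa [mul_assoc] using this
    have h3 : y ∈ B₀ := by
      have hyp : y ^ p = 1 := hA.2 y (mem_sup_right hy)
      obtain ⟨k, hk⟩ := S.odd
      have h4 : (y * y) ^ (k + 1) = y := by
        rw [← sq, ← pow_mul, show 2 * (k + 1) = p + 1 by omega, pow_succ, hyp, one_mul]
      exact h4 ▸ pow_mem h2 _
    refine hxB₀ ?_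
    have hy1 : y ≠ 1 := fun h => hb₀B (by simpa [h] using hb)
    have hxz : x ∈ zpowers y := by
      have hox : orderOf x = p := orderOf_eq_prime hxp hx1
      have hoy : orderOf y = p := orderOf_eq_prime (hA.2 y (mem_sup_right hy)) hy1
      have : zpowers y = zpowers x := eq_of_le_of_card_ge (zpowers_le.2 hy)
        (Nat.le_of_eq (by rw [Nat.card_zpowers, Nat.card_zpowers, hox, hoy]))
      rw [this]; exact mem_zpowers x
    exact zpowers_le.2 h3 hxz
  obtain ⟨i, j, hi, hj, hii, hjj, hij, hother⟩ := g.exists_pair S hB₀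
  have hCu : ∀ y, y ∈ C ⊓ centralizer (B₀ : Set G) →
      u * y * u⁻¹ ∈ C ⊓ centralizer (B₀' : Set G) := by
    intro y hy
    refine ⟨Signalizer.conj_mem le_rfl huC hy.1, mem_centralizer_iff.2 ?_⟩
    rintro _ ⟨b, hb, rfl⟩
    simp only [MulEquiv.coe_toMonoidHom, MulAut.conj_apply]
    calc u * b * u⁻¹ * (u * y * u⁻¹) = u * (b * y) * u⁻¹ := by group
      _ = u * (y * b) * u⁻¹ := by rw [mem_centralizer_iff.1 hy.2 b hb]
      _ = _ := by group
  obtain ⟨hh1, hh3⟩ := hother B₀' hB₀'A hB₀'i hne _ (hCu i hi)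
  obtain ⟨hh2, hh4⟩ := hother B₀' hB₀'A hB₀'i hne _ (hCu j hj)
  have husu : u * s * u⁻¹ = s := conj_eq_of_commute hus
  have hii' : u * i * u⁻¹ * (u * i * u⁻¹) = s := by
    rw [show u * i * u⁻¹ * (u * i * u⁻¹) = u * (i * i) * u⁻¹ by group, hii, husu]
  have hjj' : u * j * u⁻¹ * (u * j * u⁻¹) = s := by
    rw [show u * j * u⁻¹ * (u * j * u⁻¹) = u * (j * j) * u⁻¹ by group, hjj, husu]
  have hij' : u * i * u⁻¹ * (u * j * u⁻¹) = s * (u * j * u⁻¹ * (u * i * u⁻¹)) := by
    rw [show u * i * u⁻¹ * (u * j * u⁻¹) = u * (i * j) * u⁻¹ by group, hij,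
      show u * (s * (j * i)) * u⁻¹ = (u * s * u⁻¹) * (u * (j * i) * u⁻¹) by group, husu]
    group
  obtain ⟨hW, hWc⟩ :=
    three_involutions hs hs1 hii hjj hij hii' hjj' hij' hh1 hh2 hh3 hh4
  set W := zpowers s ⊔ zpowers (i * (u * i * u⁻¹)) ⊔ zpowers (j * (u * j * u⁻¹)) with hWdef
  have hsC : s ∈ C := hii ▸ mul_mem hi.1 hi.1
  have hWC : W ≤ C := sup_le (sup_le (zpowers_le.2 hsC)
    (zpowers_le.2 (mul_mem hi.1 (hCu i hi).1))) (zpowers_le.2 (mul_mem hj.1 (hCu j hj).1))
  have hflip : ∀ y : G, y * (u * y * u⁻¹) = (u * y * u⁻¹) * y →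
      Commute u (y * (u * y * u⁻¹)) := by
    intro y hy
    show u * _ = _ * u
    rw [← mul_inv_eq_iff_eq_mul]
    calc u * (y * (u * y * u⁻¹)) * u⁻¹ = u * y * u⁻¹ * ((u * u) * y * (u * u)⁻¹) := by group
      _ = u * y * u⁻¹ * y := by rw [huu]; simp
      _ = _ := hy.symm
  have hucW : u ∈ centralizer (W : Set G) := by
    rw [hWdef, zpowers_eq_closure, zpowers_eq_closure, zpowers_eq_closure, ← Subgroup.closure_union,
      ← Subgroup.closure_union, Subgroup.centralizer_closure]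
    refine mem_centralizer_iff.2 ?_
    rintro y ((rfl | rfl) | rfl)
    · exact hus.symm
    · exact (hflip i hh1).eq.symm
    · exact (hflip j hh4).eq.symm
  have huW : u ∉ W := by
    intro h
    have huCm := hWC h
    rcases g.comm_or huCm hi.1 with h1 | h1
    · rw [conj_eq_of_commute h1] at hh3
      rw [hh3, eq_comm, mul_eq_right] at hij
      exact hs1 hij
    · have hi' : u * i * u⁻¹ = s * i := by
        rw [h1]; group
      rw [hi', ← mul_assoc, ← g.central hj.1, mul_assoc, mul_assoc, mul_right_inj] at hh3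
      rw [hh3, eq_comm, mul_eq_right] at hij
      exact hs1 hij
  obtain ⟨hW4, hW4c⟩ := elemAb_grow hW (hE.2 u huE) hucW huW
  -- everything centralises `B₀ ⊓ B`
  have hL : Nat.card ↥(B₀ ⊓ B) = p ^ n := card_inf_hyperplanes hA hBA (by
    have h2 : Nat.card B * B.relIndex A = Nat.card A := by
      rw [← Subgroup.relIndex_bot_left, ← Subgroup.relIndex_bot_left,
        Subgroup.relIndex_mul_relIndex _ _ _ bot_le hBA]
    rw [hAc, hBc, hn, pow_succ p (n + 1)] at h2
    exact Nat.eq_of_mul_eq_mul_left (pow_pos hp.pos _) h2) hB₀.1 hB₀.2.1 hB₀B (hn ▸ hAc)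
  have hLu : u ∈ centralizer ((B₀ ⊓ B : Subgroup G) : Set G) := Subgroup.centralizer_le
    (SetLike.coe_subset_coe.2 inf_le_right) (hEB huE)
  have hLi : ∀ y ∈ C ⊓ centralizer (B₀ : Set G),
      y * (u * y * u⁻¹) ∈ centralizer ((B₀ ⊓ B : Subgroup G) : Set G) := by
    intro y hy
    have h1 : y ∈ centralizer ((B₀ ⊓ B : Subgroup G) : Set G) :=
      Subgroup.centralizer_le (SetLike.coe_subset_coe.2 inf_le_left) hy.2
    exact mul_mem h1 (mul_mem (mul_mem hLu h1) (inv_mem hLu))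
  have := S.rank_bound 4 n _ (B₀ ⊓ B) hW4 (by rw [hW4c, hWc]; rfl) (by omega)
    (Signalizer.elemAb_of_le hA (inf_le_right.trans hBA)) hL (by omega)
    (sup_le (sup_le (sup_le (s_le_centralizer g (inf_le_right.trans hBA))
      (zpowers_le.2 (hLi i hi))) (zpowers_le.2 (hLi j hj))) (zpowers_le.2 hLu))
  omega

/-- The sharper bound below rank `m`. -/
theorem Setting.rank_bound' (S : Setting G p m) :
    ∀ (e b : ℕ) (E B : Subgroup G), Cfsg.IsElementaryAbelian 2 E → Nat.card E = 2 ^ e → e ≠ 0 →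
      Cfsg.IsElementaryAbelian p B → Nat.card B = p ^ b → b ≠ 0 →
      E ≤ centralizer (B : Set G) → b + 1 ≤ m → e + b ≤ m := by
  intro e
  induction e with
  | zero => exact fun _ _ _ _ _ h => absurd rfl h
  | succ e ih =>
    intro b E B hE hEc _ hB hBc hb0 hEB hbm
    have hE1 : E ≠ ⊥ := ne_bot_of_card one_lt_two (Nat.succ_ne_zero e) hEc
    have hB1 : B ≠ ⊥ := ne_bot_of_card (Fact.out : p.Prime).one_lt hb0 hBc
    rcases eq_or_ne e 0 with rfl | he
    · omega
    rcases eq_or_ne e 1 with rfl | he1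
    · by_contra hcon
      obtain ⟨n, rfl⟩ : ∃ n, b = n + 1 := ⟨b - 1, by omega⟩
      exact S.no_four hE hEc hB (n := n) (by omega) hBc hEB
    obtain ⟨F, u, x, hFE, hFi, -, hxp, hxB, -, hxC, hxF, -⟩ :=
      S.exists_inverted hE hE1 hB hB1 hEB
    obtain ⟨hB', hB'c⟩ := elemAb_grow hB hxp hxC hxB
    have hFB' : F ≤ centralizer ((B ⊔ zpowers x : Subgroup G) : Set G) :=
      Subgroup.le_centralizer_iff.1 (sup_le ((Subgroup.le_centralizer_iff.1 hEB).trans
        (Subgroup.centralizer_le (SetLike.coe_subset_coe.2 hFE))) (zpowers_le.2 hxF))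
    have hFc := hyperplane_card two_pos hFE hFi hEc
    have hFe := Signalizer.elemAb_of_le hE hFE
    by_cases hb2 : b + 1 + 1 ≤ m
    · have := ih (b + 1) F _ hFe hFc he hB' (by rw [hB'c, hBc, pow_succ]) (Nat.succ_ne_zero b)
        hFB' hb2
      omega
    · have := S.rank_bound e (b + 1) F _ hFe hFc he hB' (by rw [hB'c, hBc, pow_succ])
        (Nat.succ_ne_zero b) hFB'
      omega

theorem Setting.false_of_attained (S : Setting G p m) {A T : Subgroup G}
    (hA : Cfsg.IsElementaryAbelian p A) (hAc : Nat.card A = p ^ m) (hT : IsPGroup 2 T) (hT1 : T ≠ ⊥)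
    (hAT : A ≤ normalizer (T : Set G)) : False := by
  have hp := (Fact.out : p.Prime)
  obtain ⟨n, hn⟩ : ∃ n, m = n + 2 := ⟨m - 2, by have := S.three_le; omega⟩
  have hn1 : 1 ≤ n := by have := S.three_le; omega
  have hAne : A ≠ ⊥ := ne_bot_of_card hp.one_lt (by omega) hAc
  set M := normalizer (T : Set G) with hM
  set Q := pCoreIn 2 M with hQdef
  have hQp : IsPGroup 2 Q := isPGroup_pCoreIn 2 M
  have hTQ : T ≤ Q := le_pCoreIn le_normalizer hT le_rfl
  haveI := hQp.isNilpotent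
  haveI : Nontrivial Q := (nontrivial_iff_ne_bot Q).2 fun h => hT1 (le_bot_iff.1 (h ▸ hTQ))
  let Z : Subgroup G :=
    { carrier := {z | z ∈ Q ⊓ centralizer (Q : Set G) ∧ z * z = 1}
      one_mem' := ⟨one_mem _, one_mul 1⟩
      mul_mem' := fun {v w} hv hw => ⟨mul_mem hv.1 hw.1, by
        rw [show v * w * (v * w) = (v * v) * (w * w) from
          (show Commute w v from mem_centralizer_iff.1 hv.1.2 w hw.1.1).mul_mul_mul_comm v w,
          hv.2, hw.2, one_mul]⟩
      inv_mem' := fun {w} hw => ⟨inv_mem hw.1, by rw [← mul_inv_rev, hw.2, inv_one]⟩ }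
  have hZ : Cfsg.IsElementaryAbelian 2 Z :=
    ⟨⟨⟨fun x y => Subtype.ext (mem_centralizer_iff.1 y.2.1.2 x x.2.1.1)⟩⟩,
      fun w hw => by rw [sq]; exact hw.2⟩
  have hAQ : A ≤ normalizer (Q : Set G) := hAT.trans (le_normalizer_pCoreIn 2 M)
  have hAZ : A ≤ normalizer (Z : Set G) := Signalizer.le_normalizer_of_conj_mem fun a ha z hz =>
    ⟨Signalizer.conj_mem (Signalizer.le_normalizer_inf hAQ
      (Signalizer.le_normalizer_centralizer hAQ)) ha hz.1, by
      rw [show a * z * a⁻¹ * (a * z * a⁻¹) = a * (z * z) * a⁻¹ by group, hz.2, mul_one,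
        mul_inv_cancel]⟩
  obtain ⟨t, htZ, ht1, htt⟩ : ∃ t ∈ Z, t ≠ 1 ∧ t * t = 1 := by
    haveI : Nontrivial (center Q) := hQp.center_nontrivial
    obtain ⟨⟨c, hc⟩, hc1⟩ := exists_ne (1 : center Q)
    obtain ⟨t, ht, ht1, htt⟩ := exists_involution
      (hQp.to_le (map_subtype_le (center Q))) (fun h => hc1 (Subtype.ext (by
        rw [(map_eq_bot_iff_of_injective _ Q.subtype_injective).1 h] at hc
        exact mem_bot.1 hc)))
    obtain ⟨c', hc', rfl⟩ := ht
    exact ⟨c', ⟨⟨c'.2, mem_centralizer_iff.2 fun q hq =>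
      congrArg Subtype.val (mem_center_iff.1 hc' ⟨q, hq⟩)⟩, htt⟩, ht1, htt⟩
  have hZA : Z ≤ centralizer (A : Set G) := by
    refine Signalizer.le_of_hyperplanes hA hAne _ _
      (not_dvd_card_of_two_group S.odd (Signalizer.isPGroup_of_elemAb hZ)) hAZ fun B hBA hBi => ?_
    set V := Z ⊓ centralizer (B : Set G) with hV
    have hAV : A ≤ normalizer (V : Set G) := Signalizer.le_normalizer_inf hAZ
      (Signalizer.le_normalizer_centralizer (Signalizer.le_normalizer_of_commute fun a ha b hb =>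
        Signalizer.commute_of_isMulCommutative hA.1 ha (hBA hb)))
    intro v hv
    by_cases hv1 : v = 1
    · rw [hv1]; exact one_mem _
    refine mem_centralizer_iff.2 fun a ha => ?_
    by_contra hne
    have hw := Signalizer.conj_mem hAV ha hv
    have hw' : a * v * a⁻¹ ∉ zpowers v := by
      intro h
      rcases mem_zpowers_of_sq hv.1.2 h with h | h
      · exact hv1 (conj_eq_one_iff.1 h)
      · exact hne (mul_inv_eq_iff_eq_mul.1 h)
    obtain ⟨hE, hEc⟩ := elemAb_grow (p := 2) (PLocal.elemAb_zpowers (hZ.2 v hv.1))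
      (hZ.2 _ hw.1) (zpowers_le_centralizer_singleton
        (Signalizer.commute_of_isMulCommutative hZ.1 hw.1 hv.1)) hw'
    rw [Nat.card_zpowers, orderOf_eq_prime (hZ.2 v hv.1) hv1] at hEc
    have := S.rank_bound' 2 (n + 1) _ B hE (by rw [hEc]; rfl) two_ne_zero
      (Signalizer.elemAb_of_le hA hBA) (hyperplane_card hp.pos hBA hBi (hn ▸ hAc))
      (Nat.succ_ne_zero n) (sup_le (zpowers_le.2 hv.2) (zpowers_le.2 hw.2)) (by omega)
    omega
  have hAt : A ≤ centralizer ({t} : Set G) :=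
    (Subgroup.le_centralizer_iff.1 hZA).trans (Signalizer.centralizer_le_singleton htZ)
  obtain ⟨C, g⟩ := exists_good S hA hAc htt ht1 hAt
  obtain ⟨⟨a, ha⟩, ha1'⟩ := Subgroup.ne_bot_iff_exists_ne_one.1 hAne
  have ha1 : a ≠ 1 := fun h => ha1' (Subtype.ext h)
  obtain ⟨B₁, hB₁, -⟩ := exists_moved S g ha ha1
  obtain ⟨b, hb, hb1⟩ := Signalizer.exists_ne_one_mem_hyperplane hB₁.1
    (by rw [hAc]; exact Nat.pow_le_pow_right hp.pos (by omega)) hB₁.2.1
  obtain ⟨B₂, hB₂, hbB₂⟩ := exists_moved S g (hB₁.1 hb) hb1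
  have hne : B₂ ≠ B₁ := fun h => hbB₂ (h ▸ hb)
  obtain ⟨i, j, hi, hj, hii, hjj, hij, hother⟩ := g.exists_pair S hB₁
  obtain ⟨i', j', hi', hj', hii', hjj', hij', -⟩ := g.exists_pair S hB₂
  obtain ⟨h1, h3⟩ := hother B₂ hB₂.1 hB₂.2.1 hne i' hi'
  obtain ⟨h2, h4⟩ := hother B₂ hB₂.1 hB₂.2.1 hne j' hj'
  obtain ⟨hW, hWc⟩ := three_involutions htt ht1 hii hjj hij hii' hjj' hij' h1 h2 h3 h4
  have hL : Nat.card ↥(B₂ ⊓ B₁) = p ^ n :=
    card_inf_hyperplanes hA hB₁.1 hB₁.2.1 hB₂.1 hB₂.2.1 hne (hn ▸ hAc)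
  have hmem : ∀ y y', y ∈ C ⊓ centralizer (B₁ : Set G) → y' ∈ C ⊓ centralizer (B₂ : Set G) →
      y * y' ∈ centralizer ((B₂ ⊓ B₁ : Subgroup G) : Set G) := fun y y' hy hy' =>
    mul_mem (Subgroup.centralizer_le (SetLike.coe_subset_coe.2 inf_le_right) hy.2)
      (Subgroup.centralizer_le (SetLike.coe_subset_coe.2 inf_le_left) hy'.2)
  have := S.rank_bound' 3 n _ (B₂ ⊓ B₁) hW (by rw [hWc]; rfl) (by omega)
    (Signalizer.elemAb_of_le hA (inf_le_left.trans hB₂.1)) hL (by omega)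
    (sup_le (sup_le (s_le_centralizer g (inf_le_left.trans hB₂.1))
      (zpowers_le.2 (hmem i i' hi hi'))) (zpowers_le.2 (hmem j j' hj hj'))) (by omega)
  omega

/-- Klinger-Mason. -/
theorem twoLocalPRankLE_two (hp : p ≠ 2) (hGp : Cfsg.IsOfLocalCharacteristic p G)
    (hG2 : Cfsg.IsCharacteristicTwoType G) : Cfsg.TwoLocalPRankLE p 2 G := by
  classical
  rintro H ⟨T, hT, hT1, rfl⟩ A hA hAp
  by_contra hcon
  rw [not_le] at hcon
  set A' := A.map (normalizer (T : Set G)).subtype with hA'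
  have hA'e : Cfsg.IsElementaryAbelian p A' := by
    refine ⟨Subgroup.le_centralizer_iff_isMulCommutative.1 ?_, ?_⟩
    · rintro _ ⟨x, hx, rfl⟩
      refine mem_centralizer_iff.2 ?_
      rintro _ ⟨y, hy, rfl⟩
      exact congrArg Subtype.val (Signalizer.commute_of_isMulCommutative hA hy hx)
    · rintro _ ⟨x, hx, rfl⟩
      simpa using congrArg Subtype.val (hAp x hx)
  obtain ⟨k₀, hk₀⟩ := IsPGroup.iff_card.1 (Signalizer.isPGroup_of_elemAb hA'e)
  have hk3 : 3 ≤ k₀ := by
    rw [show Nat.card A = Nat.card A' from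
      (Subgroup.card_map_of_injective (normalizer (T : Set G)).subtype_injective).symm, hk₀] at hcon
    exact (Nat.pow_lt_pow_iff_right (Fact.out : p.Prime).one_lt).1 hcon
  let P : ℕ → Prop := fun k => ∃ A T : Subgroup G, Cfsg.IsElementaryAbelian p A ∧
    Nat.card A = p ^ k ∧ IsPGroup 2 T ∧ T ≠ ⊥ ∧ A ≤ normalizer (T : Set G)
  have hP0 : P k₀ := ⟨A', T, hA'e, hk₀, hT, hT1, map_subtype_le A⟩
  have hle : ∀ k, P k → k ≤ Nat.card G := by
    rintro k ⟨B, U, -, hB, -⟩
    exact (Nat.lt_pow_self (Fact.out : p.Prime).one_lt).le.trans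
      (hB ▸ Nat.le_of_dvd Nat.card_pos (Subgroup.card_subgroup_dvd_card B))
  set m := Nat.findGreatest P (Nat.card G) with hm
  obtain ⟨B, U, hB, hBc, hU, hU1, hBU⟩ : P m := Nat.findGreatest_spec (hle k₀ hP0) hP0
  refine Setting.false_of_attained (p := p) (m := m) ⟨(Fact.out : p.Prime).odd_of_ne_two hp,
    hk3.trans (Nat.le_findGreatest (hle k₀ hP0) hP0), fun B hB hB1 => ?_, fun T hT hT1 => ?_,
    fun k A T h1 h2 h3 h4 h5 => Nat.le_findGreatest (hle k ⟨A, T, h1, h2, h3, h4, h5⟩)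
      ⟨A, T, h1, h2, h3, h4, h5⟩⟩ hB hBc hU hU1 hBU
  · exact (hasCharP_iff.2 (hGp.2 B hB hB1)).of_normal (centralizer_le_normalizer (B : Set G))
      (Signalizer.le_normalizer_centralizer le_rfl)
  · exact hasCharP_iff.2 (hG2.2 T hT hT1)

end Cfsg.Agent.KlingerMason
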