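import Cfsg.Agent.Lib.KlingerMason.Basic
import Cfsg.Agent.Lib.PGroup.Critical
import Cfsg.Agent.Lib.Coprime.Invariant

/-!
# Klinger-Mason: an involution `s` centralised by a maximal elementary `p`-subgroup `A`

* `Good`: properties of a critical subgroup `C` of `O_2(C(s))`
* `Pair`: the pairs `i, j` attached to moved hyperplanes
-/

set_option autoImplicit false
set_option linter.unusedSectionVars false

namespace Cfsg.Agent.KlingerMason

open Subgroup LocalCharP
open scoped Pointwise commutatorElement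

variable {G : Type*} [Group G] [Finite G] {p m : ℕ} [Fact p.Prime]

section Fixed

variable (S : Setting G p m) {A : Subgroup G} (hA : Cfsg.IsElementaryAbelian p A)
  (hAc : Nat.card A = p ^ m) {s : G} (hs : s * s = 1) (hs1 : s ≠ 1)
  (hAs : A ≤ centralizer ({s} : Set G))

include S hA hAc hs hs1 hAs

theorem s_mem_centralizer : s ∈ centralizer (A : Set G) :=
  mem_centralizer_iff.2 fun a ha => (mem_centralizer_iff.1 (hAs ha) s rfl).symm

theorem inv_elemAb_le {W : Subgroup G} (hW : Cfsg.IsElementaryAbelian 2 W)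
    (hWs : W ≤ centralizer ({s} : Set G)) (hAW : A ≤ normalizer (W : Set G)) : W ≤ zpowers s := by
  have hAne : A ≠ ⊥ := ne_bot_of_card (Fact.out : p.Prime).one_lt (by have := S.three_le; omega) hAc
  have hsA := s_mem_centralizer S hA hAc hs hs1 hAs
  have hsE : Cfsg.IsElementaryAbelian 2 (zpowers s) := PLocal.elemAb_zpowers (by rw [sq, hs])
  have hc : W ≤ centralizer (zpowers s : Set G) := fun w hw =>
    zpowers_le_centralizer_singleton (mem_centralizer_iff.1 (hWs hw) s rfl).symm
  have hW' := PLocal.elemAb_sup hW hsE hc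
  have hAs' : A ≤ normalizer (zpowers s : Set G) :=
    (le_centralizer_iff.1 (zpowers_le.2 hsA)).trans (centralizer_le_normalizer (zpowers s : Set G))
  have hAW' := Signalizer.le_normalizer_sup hAW hAs'
  suffices h : W ⊔ zpowers s ≤ centralizer (A : Set G) by
    intro w hw
    have hwA := h (mem_sup_left hw)
    rcases S.eq_of_mem_centralizer hA hAc hs hs1 hsA (by rw [← sq]; exact hW.2 w hw) hwA
      (mem_centralizer_iff.1 (hWs hw) s rfl).symm with rfl | rfl
    exacts [one_mem _, mem_zpowers _]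
  refine Signalizer.le_of_hyperplanes hA hAne _ _
    (not_dvd_card_of_two_group S.odd (Signalizer.isPGroup_of_elemAb hW')) hAW' fun B hBA hBi => ?_
  set V := (W ⊔ zpowers s) ⊓ centralizer (B : Set G) with hVdef
  have hAV : A ≤ normalizer (V : Set G) := Signalizer.le_normalizer_inf hAW'
    (Signalizer.le_normalizer_centralizer (Signalizer.le_normalizer_of_commute fun a ha b hb =>
      Signalizer.commute_of_isMulCommutative hA.1 ha (hBA hb)))
  have hsV : s ∈ V := ⟨mem_sup_right (mem_zpowers s), Subgroup.centralizer_le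
    (SetLike.coe_subset_coe.2 hBA) hsA⟩
  have hV : Cfsg.IsElementaryAbelian 2 V := Signalizer.elemAb_of_le hW' inf_le_left
  obtain ⟨n, hn⟩ : ∃ n, m = n + 1 := ⟨m - 1, by have := S.three_le; omega⟩
  have hBc : Nat.card B = p ^ n := hyperplane_card (Fact.out : p.Prime).pos hBA hBi (hn ▸ hAc)
  intro v hv
  refine mem_centralizer_iff.2 fun a ha => ?_
  by_cases hvs : v ∈ zpowers s
  · exact mem_centralizer_iff.1 (zpowers_le.2 hsA hvs) a ha
  obtain ⟨hV2, hV2c⟩ := elemAb_grow hsE (hV.2 v hv) (zpowers_le_centralizer_singleton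
    (Signalizer.commute_of_isMulCommutative hV.1 hv hsV)) hvs
  rw [Nat.card_zpowers, orderOf_eq_prime (by rw [sq, hs]) hs1] at hV2c
  have hV2V : zpowers s ⊔ zpowers v ≤ V := sup_le (zpowers_le.2 hsV) (zpowers_le.2 hv)
  have hx : a * v * a⁻¹ ∈ zpowers s ⊔ zpowers v := by
    by_contra hx
    have hxV : a * v * a⁻¹ ∈ V := Signalizer.conj_mem hAV ha hv
    obtain ⟨hV3, hV3c⟩ := elemAb_grow hV2 (hV.2 _ hxV) (mem_centralizer_iff.2 fun g hg =>
      Signalizer.commute_of_isMulCommutative hV.1 (hV2V hg) hxV) hx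
    have := S.rank_bound 3 n _ B hV3 (by rw [hV3c, hV2c]; rfl) (by omega)
      (Signalizer.elemAb_of_le hA hBA) hBc (by have := S.three_le; omega)
      ((sup_le hV2V (zpowers_le.2 hxV)).trans inf_le_right)
    omega
  have hvn : v ∈ normalizer (zpowers s : Set G) :=
    centralizer_le_normalizer (zpowers s : Set G) (zpowers_le_centralizer_singleton
      (Signalizer.commute_of_isMulCommutative hV.1 hv hsV))
  have hx' : a * v * a⁻¹ ∈ (zpowers s : Set G) * (zpowers v : Set G) := by
    rw [← Subgroup.coe_mul_of_right_le_normalizer_left _ _ (zpowers_le.2 hvn)]; exact hx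
  obtain ⟨x, hxs, y, hyv, hxy⟩ := hx'
  have hxy' : x * y = a * v * a⁻¹ := hxy
  have has : a * s = s * a := mem_centralizer_iff.1 hsA a ha
  rcases mem_zpowers_of_sq (by rw [← sq]; exact hV.2 v hv) hyv with rfl | rfl
  · exfalso
    rw [mul_one] at hxy'
    apply hvs
    have : a * x * a⁻¹ = x := by
      rcases mem_zpowers_of_sq hs hxs with rfl | rfl
      · group
      · exact conj_eq_of_commute has
    have h2 : a * v * a⁻¹ = a * x * a⁻¹ := by rw [this, hxy']
    rw [mul_left_inj, mul_right_inj] at h2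
    exact h2 ▸ hxs
  · refine fix_pair S.odd (hA.2 a ha) hs has ?_
    rcases mem_zpowers_of_sq hs hxs with rfl | rfl
    · exact Or.inl (by rw [← hxy', one_mul])
    · exact Or.inr hxy'.symm

theorem inv_abelian_le {Q Y : Subgroup G} (hQ : IsPGroup 2 Q) (hQs : Q ≤ centralizer ({s} : Set G))
    (hYQ : Y ≤ Q) (hY : ∀ x ∈ Y, ∀ y ∈ Y, x * y = y * x) (hAY : A ≤ normalizer (Y : Set G)) :
    Y ≤ centralizer (A : Set G) := by
  have hsA := s_mem_centralizer S hA hAc hs hs1 hAs
  let W : Subgroup G :=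
    { carrier := {w | w ∈ Y ∧ w * w = 1}
      one_mem' := ⟨one_mem _, one_mul 1⟩
      mul_mem' := fun {v w} hv hw => ⟨mul_mem hv.1 hw.1, by
        rw [show v * w * (v * w) = (v * v) * (w * w) from
          (show Commute w v from hY w hw.1 v hv.1).mul_mul_mul_comm v w, hv.2, hw.2, one_mul]⟩
      inv_mem' := fun {w} hw => ⟨inv_mem hw.1, by rw [← mul_inv_rev, hw.2, inv_one]⟩ }
  have hW : Cfsg.IsElementaryAbelian 2 W :=
    ⟨⟨⟨fun x y => Subtype.ext (hY x x.2.1 y y.2.1)⟩⟩, fun w hw => by rw [sq]; exact hw.2⟩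
  have hWz : W ≤ zpowers s := inv_elemAb_le S hA hAc hs hs1 hAs hW
    (fun w hw => hQs (hYQ hw.1)) (Signalizer.le_normalizer_of_conj_mem fun a ha w hw =>
      ⟨Signalizer.conj_mem hAY ha hw.1, by
        rw [show a * w * a⁻¹ * (a * w * a⁻¹) = a * (w * w) * a⁻¹ by group, hw.2, mul_one,
          mul_inv_cancel]⟩)
  have key : ∀ k : ℕ, ∀ y ∈ Y, y ^ 2 ^ k = 1 → y ∈ centralizer (A : Set G) := by
    intro k
    induction k with
    | zero => intro y _ hy; rw [pow_zero, pow_one] at hy; rw [hy]; exact one_mem _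
    | succ k ih =>
      intro y hyY hy
      refine mem_centralizer_iff.2 fun a ha => ?_
      have h2 : y ^ 2 ∈ centralizer (A : Set G) :=
        ih _ (pow_mem hyY 2) (by rw [← pow_mul, ← pow_succ']; exact hy)
      have hy' := Signalizer.conj_mem hAY ha hyY
      set d := a * y * a⁻¹ * y⁻¹ with hd
      have hdd : d * d = 1 := by
        have h3 : Commute y⁻¹ (a * y * a⁻¹) := (show Commute (a * y * a⁻¹) y⁻¹ from
          hY _ hy' _ (inv_mem hyY)).symm
        rw [hd, h3.mul_mul_mul_comm, show a * y * a⁻¹ * (a * y * a⁻¹) = a * y ^ 2 * a⁻¹ by rw [sq]; group,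
          conj_eq_of_commute (mem_centralizer_iff.1 h2 a ha)]
        group
      have hdA : d ∈ centralizer (A : Set G) :=
        zpowers_le.2 hsA (hWz ⟨mul_mem hy' (inv_mem hyY), hdd⟩)
      refine fix_of_conj_eq_mul S.odd (hA.2 a ha) (d := d) ?_ (mem_centralizer_iff.1 hdA a ha) ?_
      · rw [show (4 : ℕ) = 2 * 2 from rfl, pow_mul, sq d, hdd, one_pow]
      · rw [hd]; group
  intro y hy
  obtain ⟨k, hk⟩ := hQ ⟨y, hYQ hy⟩
  exact key k y hy (by simpa using congrArg Subtype.val hk)

end Fixed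

/-- The properties of the critical subgroup `C` of `O_2(C(s))` that are used. -/
structure Good (p m : ℕ) (A : Subgroup G) (s : G) (C : Subgroup G) : Prop where
  hA : Cfsg.IsElementaryAbelian p A
  hAc : Nat.card A = p ^ m
  hs : s * s = 1
  hs1 : s ≠ 1
  hAs : A ≤ centralizer ({s} : Set G)
  le_pCore : C ≤ pCoreIn 2 (centralizer ({s} : Set G))
  invariant : centralizer ({s} : Set G) ≤ normalizer (C : Set G)
  comm_mem : ∀ x ∈ C, ∀ y ∈ C, ⁅x, y⁆ ∈ zpowers s
  sq_fixed : ∀ x ∈ C, x * x ∈ centralizer (A : Set G)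
  faithful : ∀ a ∈ A, (∀ x ∈ C, a * x = x * a) → a = 1

theorem exists_good (S : Setting G p m) {A : Subgroup G} (hA : Cfsg.IsElementaryAbelian p A)
    (hAc : Nat.card A = p ^ m) {s : G} (hs : s * s = 1) (hs1 : s ≠ 1)
    (hAs : A ≤ centralizer ({s} : Set G)) : ∃ C, Good p m A s C := by
  set K := centralizer ({s} : Set G) with hK
  set Q := pCoreIn 2 K with hQdef
  have hKz : K = centralizer (zpowers s : Set G) := by
    rw [hK, zpowers_eq_closure, Subgroup.centralizer_closure]
  have hchar : HasCharP 2 K := by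
    rw [hKz]
    exact (S.charTwo _ (Signalizer.isPGroup_zpowers_of_pow_eq_one (by rw [sq, hs]))
      (zpowers_ne_bot.2 hs1)).of_normal (centralizer_le_normalizer (zpowers s : Set G))
      (Signalizer.le_normalizer_centralizer le_rfl)
  have hQp : IsPGroup 2 Q := isPGroup_pCoreIn 2 K
  obtain ⟨H, hH⟩ := PGroup.exists_critical (p := 2) hQp
  haveI := hH.char
  set C := H.map Q.subtype with hCdef
  have hKQ : K ≤ normalizer (Q : Set G) := le_normalizer_pCoreIn 2 K
  have hKC : K ≤ normalizer (C : Set G) := hKQ.trans (Cores.normalizer_le_normalizer_map H)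
  have hCQ : C ≤ Q := map_subtype_le _
  have hcent : ∀ x ∈ C, ∀ y ∈ C, ∀ z ∈ C, Commute ⁅x, y⁆ z ∧ Commute (x ^ 2) z := by
    rintro _ ⟨x, hx, rfl⟩ _ ⟨y, -, rfl⟩ _ ⟨z, hz, rfl⟩
    refine ⟨?_, ?_⟩
    · rw [← map_commutatorElement]
      have h1 : Commute ⁅x, y⁆ z := (mem_centralizer_iff.1 (hH.comm_mem x hx y).2 z hz).symm
      exact h1.map Q.subtype
    · rw [← map_pow]
      have h1 : Commute (x ^ 2) z := (mem_centralizer_iff.1 (hH.pow_mem x hx) z hz).symm
      exact h1.map Q.subtype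
  let W : Subgroup G := closure {w | ∃ x ∈ C, ∃ y ∈ C, ⁅x, y⁆ = w}
  have hWC : W ≤ C := (closure_le _).2 <| by
    rintro _ ⟨x, hx, y, hy, rfl⟩
    rw [SetLike.mem_coe, commutatorElement_def]
    exact mul_mem (mul_mem (mul_mem hx hy) (inv_mem hx)) (inv_mem hy)
  have hW : Cfsg.IsElementaryAbelian 2 W := by
    refine PLocal.elemAb_closure ?_ ?_
    · rintro _ ⟨x, hx, y, hy, rfl⟩ _ ⟨x', hx', y', hy', rfl⟩
      refine (hcent x hx y hy _ ?_).1.eq
      exact hWC (subset_closure ⟨x', hx', y', hy', rfl⟩)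
    · rintro _ ⟨x, hx, y, hy, rfl⟩
      have h1 : Commute x ⁅x, y⁆ := (hcent x hx y hy x hx).1.symm
      rw [← PGroup.commutator_pow_left h1, commutatorElement_eq_one_iff_commute]
      exact (hcent x hx y hy y hy).2
  have hAW : A ≤ normalizer (W : Set G) := by
    refine Signalizer.le_normalizer_of_conj_mem fun a ha w hw => ?_
    have : W.map (MulAut.conj a).toMonoidHom ≤ W := by
      rw [MonoidHom.map_closure, closure_le]
      rintro _ ⟨_, ⟨x, hx, y, hy, rfl⟩, rfl⟩
      exact subset_closure ⟨_, Signalizer.conj_mem (hAs.trans hKC) ha hx, _,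
        Signalizer.conj_mem (hAs.trans hKC) ha hy,
        (map_commutatorElement (MulAut.conj a).toMonoidHom x y).symm⟩
    exact this ⟨w, hw, rfl⟩
  refine ⟨C, hA, hAc, hs, hs1, hAs, hCQ, hKC, fun x hx y hy => ?_, fun x hx => ?_, ?_⟩
  · exact inv_elemAb_le S hA hAc hs hs1 hAs hW (hWC.trans (hCQ.trans (pCoreIn_le 2 K))) hAW
      (subset_closure ⟨x, hx, y, hy, rfl⟩)
  · refine inv_abelian_le S hA hAc hs hs1 hAs hQp (pCoreIn_le 2 K)
      (Y := C ⊓ centralizer (C : Set G)) (inf_le_left.trans hCQ)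
      (fun x hx y hy => mem_centralizer_iff.1 hy.2 x hx.1) ?_ ?_
    · exact Signalizer.le_normalizer_inf (hAs.trans hKC)
        (Signalizer.le_normalizer_centralizer (hAs.trans hKC))
    · exact ⟨mul_mem hx hx, mem_centralizer_iff.2 fun z hz => by
        rw [← sq]; exact (hcent x hx x hx z hz).2.eq.symm⟩
  · intro a ha hfix
    have haQ : a ∈ normalizer (Q : Set G) := hKQ (hAs ha)
    have hpow : a ^ p = 1 := hA.2 a ha
    set φ := normalizerMonoidHom Q ⟨a, haQ⟩ with hφ
    have hcop : Nat.Coprime p 2 := Nat.coprime_two_right.2 S.odd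
    have hφ1 : φ = 1 := by
      refine PGroup.aut_eq_one_of_fix_selfCentralizing hQp hH.self_centralizing ?_ fun x hx => ?_
      · refine Nat.Coprime.coprime_dvd_left (orderOf_dvd_of_pow_eq_one ?_) hcop
        rw [hφ, ← map_pow]
        exact (congrArg _ (Subtype.ext (by simpa using hpow))).trans (map_one _)
      · exact Subtype.ext (conj_eq_of_commute (hfix x ⟨x, hx, rfl⟩))
    refine LocalCharP.eq_one_of_coprime hQp (hchar ⟨hAs ha, ?_⟩) ?_
    · refine mem_centralizer_iff.2 fun q hq => ?_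
      have h1 : (φ ⟨q, hq⟩ : G) = q := by rw [hφ1]; rfl
      have : a * q * a⁻¹ = q := h1
      exact (mul_inv_eq_iff_eq_mul.1 this).symm
    · exact Nat.Coprime.coprime_dvd_left (orderOf_dvd_of_pow_eq_one hpow) hcop

/-- `B` is a hyperplane of `A` whose centralizer in `C` is not centralised by `A`. -/
def Moved (p : ℕ) (A C B : Subgroup G) : Prop :=
  B ≤ A ∧ B.relIndex A = p ∧ ¬ C ⊓ centralizer (B : Set G) ≤ centralizer (A : Set G)

theorem exists_moved (S : Setting G p m) {A C : Subgroup G} {s : G} (g : Good p m A s C) {a : G}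
    (ha : a ∈ A) (ha1 : a ≠ 1) : ∃ B, Moved p A C B ∧ a ∉ B := by
  by_contra hcon
  push Not at hcon
  refine ha1 (g.faithful a ha ?_)
  have hAne : A ≠ ⊥ := ne_bot_of_card (Fact.out : p.Prime).one_lt (by have := S.three_le; omega) g.hAc
  have h : C ≤ centralizer ({a} : Set G) := by
    refine Signalizer.le_of_hyperplanes g.hA hAne _ C
      (not_dvd_card_of_two_group S.odd ((isPGroup_pCoreIn 2 _).to_le g.le_pCore))
      (g.hAs.trans g.invariant) fun B hBA hBi => ?_
    by_cases hB : C ⊓ centralizer (B : Set G) ≤ centralizer (A : Set G)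
    · exact hB.trans (Signalizer.centralizer_le_singleton ha)
    · exact inf_le_right.trans (Signalizer.centralizer_le_singleton (hcon B ⟨hBA, hBi, hB⟩))
  exact fun x hx => mem_centralizer_iff.1 (h hx) a rfl

namespace Good

variable {A C : Subgroup G} {s : G}

theorem central (g : Good p m A s C) {x : G} (hx : x ∈ C) : s * x = x * s :=
  mem_centralizer_iff.1 (pCoreIn_le 2 _ (g.le_pCore hx)) s rfl

theorem comm_or (g : Good p m A s C) {x y : G} (hx : x ∈ C) (hy : y ∈ C) :
    x * y = y * x ∨ x * y = s * (y * x) := by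
  have h : x * y = ⁅x, y⁆ * (y * x) := by rw [commutatorElement_def]; group
  rcases mem_zpowers_of_sq g.hs (g.comm_mem x hx y hy) with h1 | h1
  · exact Or.inl (by rw [h, h1, one_mul])
  · exact Or.inr (by rw [h, h1])

/-- If `a` fixes `x ∈ C` then `[z, a]` commutes with `x` for all `z ∈ C`. -/
theorem disp_commute (g : Good p m A s C) {a x z : G} (ha : a ∈ A) (hax : a * x = x * a)
    (hz : z ∈ C) (hx : x ∈ C) : z * (a * z * a⁻¹)⁻¹ * x = x * (z * (a * z * a⁻¹)⁻¹) := by
  have hc : ∀ c ∈ zpowers s, a * c * a⁻¹ = c ∧ z * c = c * z := by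
    intro c hc
    rcases mem_zpowers_of_sq g.hs hc with rfl | rfl
    · simp
    · exact ⟨conj_eq_of_commute (mem_centralizer_iff.1 (g.hAs ha) _ rfl).symm, (g.central hz).symm⟩
  set c := ⁅z, x⁆ with hcdef
  obtain ⟨hca, hcz⟩ := hc c (g.comm_mem z hz x hx)
  have h1 : z * x * z⁻¹ = c * x := by rw [hcdef, commutatorElement_def]; group
  have hca' : a⁻¹ * c⁻¹ * a = c⁻¹ := by
    have := congrArg (fun t => a⁻¹ * t⁻¹ * a) hca
    simpa [mul_assoc] using this.symm
  have hax' : a⁻¹ * x * a = x := by rw [mul_assoc, ← hax, inv_mul_cancel_left]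
  have h2 : (a * z * a⁻¹)⁻¹ * x * (a * z * a⁻¹) = c⁻¹ * x := by
    have h3 : z⁻¹ * x * z = c⁻¹ * x := by
      calc z⁻¹ * x * z = z⁻¹ * (c⁻¹ * (c * x)) * z := by group
        _ = z⁻¹ * c⁻¹ * (z * x * z⁻¹) * z := by rw [h1]; group
        _ = z⁻¹ * (c⁻¹ * z) * x := by group
        _ = z⁻¹ * (z * c⁻¹) * x := by rw [(show Commute z c from hcz).inv_right.eq]
        _ = _ := by group
    calc (a * z * a⁻¹)⁻¹ * x * (a * z * a⁻¹) = a * (z⁻¹ * (a⁻¹ * x * a) * z) * a⁻¹ := by group
      _ = a * (c⁻¹ * x) * a⁻¹ := by rw [hax', h3]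
      _ = (a * c * a⁻¹)⁻¹ * (a * x * a⁻¹) := by group
      _ = _ := by rw [hca, conj_eq_of_commute hax]
  set w := a * z * a⁻¹ with hw
  calc z * w⁻¹ * x = z * (w⁻¹ * x * w) * z⁻¹ * (z * w⁻¹) := by group
    _ = (z * c⁻¹) * z⁻¹ * (z * x * z⁻¹) * (z * w⁻¹) := by rw [h2]; group
    _ = (c⁻¹ * z) * z⁻¹ * (c * x) * (z * w⁻¹) := by
        rw [(show Commute z c from hcz).inv_right.eq, h1]
    _ = x * (z * w⁻¹) := by group

theorem D_invariant (g : Good p m A s C) {B : Subgroup G} (hBA : B ≤ A) :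
    A ≤ normalizer ((C ⊓ centralizer (B : Set G) : Subgroup G) : Set G) :=
  Signalizer.le_normalizer_inf (g.hAs.trans g.invariant) (Signalizer.le_normalizer_centralizer
    (Signalizer.le_normalizer_of_commute fun _ ha _ hb =>
      Signalizer.commute_of_isMulCommutative g.hA.1 ha (hBA hb)))

/-- Each moved hyperplane carries a quaternion pair, which is centralised by the centralizers in
`C` of the other hyperplanes. -/
theorem exists_pair (g : Good p m A s C) (S : Setting G p m) {B : Subgroup G} (hB : Moved p A C B) :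
    ∃ i j, i ∈ C ⊓ centralizer (B : Set G) ∧ j ∈ C ⊓ centralizer (B : Set G) ∧ i * i = s ∧
      j * j = s ∧ i * j = s * (j * i) ∧
      ∀ B', B' ≤ A → B'.relIndex A = p → B' ≠ B → ∀ x ∈ C ⊓ centralizer (B' : Set G),
        i * x = x * i ∧ j * x = x * j := by
  set D := C ⊓ centralizer (B : Set G) with hD
  have hAD := g.D_invariant hB.1
  let gens : Set G := {f | ∃ z ∈ D, ∃ a ∈ A, z * (a * z * a⁻¹)⁻¹ = f}
  set F := closure gens with hF
  have hFD : F ≤ D := (closure_le _).2 <| by
    rintro _ ⟨z, hz, a, ha, rfl⟩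
    exact mul_mem hz (inv_mem (Signalizer.conj_mem hAD ha hz))
  have hgen : ∀ x : G, (∀ f ∈ gens, f * x = x * f) → ∀ f ∈ F, f * x = x * f := by
    intro x hx f hf
    have : F ≤ centralizer ({x} : Set G) := (closure_le _).2 fun f hf =>
      mem_centralizer_iff.2 fun y hy => by rw [Set.mem_singleton_iff.1 hy]; exact (hx f hf).symm
    exact (mem_centralizer_iff.1 (this hf) x rfl).symm
  have hU : ∀ x ∈ C, x ∈ centralizer (A : Set G) → ∀ f ∈ F, f * x = x * f := by
    intro x hxC hxA
    refine hgen x ?_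
    rintro _ ⟨z, hz, a, ha, rfl⟩
    exact g.disp_commute ha (mem_centralizer_iff.1 hxA a ha) hz.1 hxC
  have hother : ∀ B', B' ≤ A → B'.relIndex A = p → B' ≠ B → ∀ x ∈ C ⊓ centralizer (B' : Set G),
      ∀ f ∈ F, f * x = x * f := by
    intro B' hB'A hB'i hne x hx
    refine hgen x ?_
    rintro _ ⟨z, hz, a, ha, rfl⟩
    obtain ⟨b', hb', hb'B⟩ : ∃ b' ∈ B', b' ∉ B := by
      by_contra hcon
      push Not at hcon
      exact hne (eq_of_le_of_card_ge hcon (Nat.le_of_eq (Nat.eq_of_mul_eq_mul_right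
        (Fact.out : p.Prime).pos ((Signalizer.card_hyperplane_mul hB.1 hB.2.1).trans
          (Signalizer.card_hyperplane_mul hB'A hB'i).symm))))
    have hle : B ⊔ zpowers b' = A := eq_of_le_of_card_ge (sup_le hB.1 (zpowers_le.2 (hB'A hb')))
      (Nat.le_of_eq (by rw [Signalizer.card_sup_zpowers g.hA hB.1 (hB'A hb') hb'B,
        Signalizer.card_hyperplane_mul hB.1 hB.2.1]))
    have ha' : a ∈ (zpowers b' : Set G) * (B : Set G) := by
      rw [← Subgroup.coe_mul_of_right_le_normalizer_left _ _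
        (Signalizer.le_normalizer_of_commute fun b hb c hc => Signalizer.commute_of_isMulCommutative
          g.hA.1 (hB.1 hb) (zpowers_le.2 (hB'A hb') hc)), sup_comm, hle]
      exact ha
    obtain ⟨c, hc, b, hb, rfl⟩ := ha'
    show z * (c * b * z * (c * b)⁻¹)⁻¹ * x = x * (z * (c * b * z * (c * b)⁻¹)⁻¹)
    have hbz : b * z * b⁻¹ = z := conj_eq_of_commute (mem_centralizer_iff.1 hz.2 b hb)
    rw [show c * b * z * (c * b)⁻¹ = c * (b * z * b⁻¹) * c⁻¹ by group, hbz]
    exact g.disp_commute (zpowers_le.2 (hB'A hb') hc)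
      (mem_centralizer_iff.1 hx.2 c (zpowers_le.2 hb' hc)) hz.1 hx.1
  have hsq : ∀ f ∈ F, f * f ∈ zpowers s := by
    intro f hf
    induction hf using closure_induction with
    | mem f hf =>
      obtain ⟨z, hz, a, ha, rfl⟩ := hf
      have hzz : a * (z * z) * a⁻¹ = z * z :=
        conj_eq_of_commute (mem_centralizer_iff.1 (g.sq_fixed z hz.1) a ha)
      have hw : (a * z * a⁻¹) * (a * z * a⁻¹) = z * z := by rw [← hzz]; group
      have hwC : a * z * a⁻¹ ∈ C := Signalizer.conj_mem (g.hAs.trans g.invariant) ha hz.1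
      generalize a * z * a⁻¹ = w at hw hwC
      rcases g.comm_or hwC hz.1 with h | h
      · have : z * w⁻¹ * (z * w⁻¹) = z * z * (w * w)⁻¹ := by
          rw [(show Commute w⁻¹ z from (show Commute w z from h).inv_left).mul_mul_mul_comm,
            mul_inv_rev]
        rw [this, hw, mul_inv_cancel]; exact one_mem _
      · have hswz : w⁻¹ * z = s * (z * w⁻¹) := by
          calc w⁻¹ * z = w⁻¹ * (s * (s * z)) * (w * w⁻¹) := by rw [← mul_assoc s, g.hs]; group
            _ = w⁻¹ * s * (s * (z * w)) * w⁻¹ := by group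
            _ = (w⁻¹ * s) * (w * z) * w⁻¹ := by rw [← h]
            _ = (s * w⁻¹) * (w * z) * w⁻¹ := by
                rw [(show Commute s w from g.central hwC).inv_right.eq]
            _ = _ := by group
        have : z * w⁻¹ * (z * w⁻¹) = s * (z * z * (w * w)⁻¹) := by
          rw [mul_assoc z, ← mul_assoc w⁻¹, hswz, ← mul_assoc z, ← mul_assoc z, ← g.central hz.1]
          group
        rw [this, hw, mul_inv_cancel, mul_one]; exact mem_zpowers s
    | one => rw [one_mul]; exact one_mem _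
    | mul x y hx hy ihx ihy =>
      have hxC := (hFD hx).1
      have hyC := (hFD hy).1
      rcases g.comm_or hyC hxC with h | h
      · rw [(show Commute y x from h).mul_mul_mul_comm]; exact mul_mem ihx ihy
      · have : x * y * (x * y) = s * (x * x) * (y * y) := by
          rw [mul_assoc x, ← mul_assoc y, h, ← mul_assoc x, ← mul_assoc x, ← g.central hxC]
          group
        rw [this]; exact mul_mem (mul_mem (mem_zpowers s) ihx) ihy
    | inv x _ ihx => rw [← mul_inv_rev]; exact inv_mem ihx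
  have hAF : A ≤ normalizer (F : Set G) := by
    refine Signalizer.le_normalizer_of_conj_mem fun c hc f hf => ?_
    have : F.map (MulAut.conj c).toMonoidHom ≤ F := by
      rw [hF, MonoidHom.map_closure, closure_le]
      rintro _ ⟨_, ⟨z, hz, a, ha, rfl⟩, rfl⟩
      refine subset_closure ⟨c * z * c⁻¹, Signalizer.conj_mem hAD hc hz, a, ha, ?_⟩
      have hac := Signalizer.commute_of_isMulCommutative g.hA.1 ha hc
      simp only [MulEquiv.coe_toMonoidHom, MulAut.conj_apply]
      rw [show a * (c * z * c⁻¹) * a⁻¹ = (a * c) * z * (a * c)⁻¹ by group, hac]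
      group
    exact this ⟨f, hf, rfl⟩
  have hFQ : ∀ f ∈ F, f ∈ pCoreIn 2 (centralizer ({s} : Set G)) := fun f hf =>
    g.le_pCore (hFD hf).1
  by_contra hcon
  have hI : ∀ x ∈ F, ∀ y ∈ F, x * x = s → y * y = s → x * y = y * x := by
    intro x hx y hy hxx hyy
    rcases g.comm_or (hFD hx).1 (hFD hy).1 with h | h
    · exact h
    · exact (hcon ⟨x, y, hFD hx, hFD hy, hxx, hyy, h, fun B' h1 h2 h3 w hw =>
        ⟨hother B' h1 h2 h3 w hw x hx, hother B' h1 h2 h3 w hw y hy⟩⟩).elim
  set K := closure {f | f ∈ F ∧ f * f = s} with hKdef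
  have hK : K ≤ centralizer (A : Set G) := by
    haveI : IsMulCommutative K :=
      Subgroup.isMulCommutative_closure fun x hx y hy => hI x hx.1 y hy.1 hx.2 hy.2
    refine inv_abelian_le S g.hA g.hAc g.hs g.hs1 g.hAs (isPGroup_pCoreIn 2 _) (pCoreIn_le 2 _)
      ((closure_le _).2 fun f hf => hFQ f hf.1)
      (fun x hx y hy => congrArg Subtype.val (mul_comm' (⟨x, hx⟩ : K) ⟨y, hy⟩)) ?_
    refine Signalizer.le_normalizer_of_conj_mem fun c hc f hf => ?_
    have : K.map (MulAut.conj c).toMonoidHom ≤ K := by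
      rw [hKdef, MonoidHom.map_closure, closure_le]
      rintro _ ⟨f, ⟨hf, hff⟩, rfl⟩
      refine subset_closure ⟨Signalizer.conj_mem hAF hc hf, ?_⟩
      simp only [MulEquiv.coe_toMonoidHom, MulAut.conj_apply]
      rw [show c * f * c⁻¹ * (c * f * c⁻¹) = c * (f * f) * c⁻¹ by group, hff]
      exact conj_eq_of_commute (mem_centralizer_iff.1 (g.hAs hc) s rfl).symm
    exact this ⟨f, hf, rfl⟩
  have hsq1 : ∀ x ∈ F, x ∉ centralizer (A : Set G) → x * x = 1 := by
    intro x hx hxA
    rcases mem_zpowers_of_sq g.hs (hsq x hx) with h | h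
    · exact h
    · exact absurd (hK (subset_closure ⟨hx, h⟩)) hxA
  have hFab : ∀ x ∈ F, ∀ y ∈ F, x * y = y * x := by
    intro x hx y hy
    by_cases hxA : x ∈ centralizer (A : Set G)
    · exact (hU x (hFD hx).1 hxA y hy).symm
    by_cases hyA : y ∈ centralizer (A : Set G)
    · exact hU y (hFD hy).1 hyA x hx
    by_cases hxyA : x * y ∈ centralizer (A : Set G)
    · have h := hU (x * y) (mul_mem (hFD hx).1 (hFD hy).1) hxyA x hx
      rw [mul_assoc, mul_right_inj] at h
      exact h
    have h := hsq1 _ (mul_mem hx hy) hxyA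
    calc x * y = (x * y)⁻¹ := (inv_eq_of_mul_eq_one_right h).symm
      _ = y * x := by
        rw [mul_inv_rev, inv_eq_of_mul_eq_one_right (hsq1 x hx hxA),
          inv_eq_of_mul_eq_one_right (hsq1 y hy hyA)]
  have hFA : F ≤ centralizer (A : Set G) := inv_abelian_le S g.hA g.hAc g.hs g.hs1 g.hAs
    (isPGroup_pCoreIn 2 _) (pCoreIn_le 2 _) (fun f hf => hFQ f hf) hFab hAF
  refine hB.2.2 fun z hz => mem_centralizer_iff.2 fun a ha => ?_
  have hf : z * (a * z * a⁻¹)⁻¹ ∈ F := subset_closure ⟨z, hz, a, ha, rfl⟩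
  refine fix_of_conj_eq_mul S.odd (g.hA.2 a ha) (d := (z * (a * z * a⁻¹)⁻¹)⁻¹) ?_
    (mem_centralizer_iff.1 (inv_mem (hFA hf)) a ha) (by group)
  rw [inv_pow, inv_eq_one, show (4 : ℕ) = 2 * 2 from rfl, pow_mul, sq (z * _)]
  rcases mem_zpowers_of_sq g.hs (hsq _ hf) with h | h <;> rw [h]
  · exact one_pow 2
  · rw [sq, g.hs]

end Good

end Cfsg.Agent.KlingerMason
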